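import Groth.Agent.PBC20.Conn
import Groth.Agent.FBase64.Geometric
import Groth.Agent.Grpd80.Shear

/-!
Connected geometric fibres in terms of the base changes to etale schemes.
-/

set_option autoImplicit false
set_option backward.isDefEq.respectTransparency.types false
universe u

open CategoryTheory CategoryTheory.Limits AlgebraicGeometry Opposite

namespace Groth.Agent.PBC20

variable {X S : Scheme.{u}} (f : X ⟶ S)

theorem surjective_of_fibres (hc : ∀ (Ω : Type u) [Field Ω] [IsAlgClosed Ω] (s : Spec (CommRingCat.of Ω) ⟶ S),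
    ConnectedSpace ↥(pullback f s)) : Surjective f := ⟨fun y => by
  let s : Spec (CommRingCat.of (AlgebraicClosure (S.residueField y))) ⟶ S :=
    Spec.map (CommRingCat.ofHom (algebraMap (S.residueField y) (AlgebraicClosure (S.residueField y)))) ≫
      S.fromSpecResidueField y
  obtain ⟨z⟩ := (hc _ s).toNonempty
  refine ⟨pullback.fst f s z, ?_⟩
  rw [← Scheme.Hom.comp_apply, pullback.condition, Scheme.Hom.comp_apply]
  exact S.fromSpecResidueField_apply y _⟩

theorem isPreconnected_proj (hc : ∀ (Ω : Type u) [Field Ω] [IsAlgClosed Ω] (s : Spec (CommRingCat.of Ω) ⟶ S),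
    ConnectedSpace ↥(pullback f s)) (U : S.Etale) (u : U.left) :
    _root_.IsPreconnected (proj f U ⁻¹' {u}) := by
  let s : Spec (CommRingCat.of (AlgebraicClosure (U.left.residueField u))) ⟶ U.left :=
    Spec.map (CommRingCat.ofHom (algebraMap (U.left.residueField u) (AlgebraicClosure (U.left.residueField u)))) ≫
      U.left.fromSpecResidueField u
  have hs : ∀ z, s z = u := fun z => U.left.fromSpecResidueField_apply u _
  let m : pullback f (s ≫ U.hom) ⟶ ((EtCoh.bc f).obj U).left :=
    pullback.lift (pullback.snd f (s ≫ U.hom) ≫ s) (pullback.fst f (s ≫ U.hom))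
      ((Category.assoc _ _ _).trans (pullback.condition (f := f) (g := s ≫ U.hom)).symm)
  have hm1 : m ≫ proj f U = pullback.snd f (s ≫ U.hom) ≫ s := pullback.lift_fst _ _ _
  have hsq : IsPullback m (pullback.snd f (s ≫ U.hom)) (proj f U) s := by
    refine IsPullback.of_right (h₁₂ := pullback.snd U.hom f) (v₁₃ := f) (h₂₂ := U.hom) ?_ hm1
      (IsPullback.of_hasPullback U.hom f).flip
    have e : m ≫ pullback.snd U.hom f = pullback.fst f (s ≫ U.hom) := pullback.lift_snd _ _ _
    exact (congrArg (fun a => IsPullback a (pullback.snd f (s ≫ U.hom)) f (s ≫ U.hom)) e).mpr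
      (IsPullback.of_hasPullback f (s ≫ U.hom))
  have h : Set.range m = proj f U ⁻¹' {u} := by
    ext x
    constructor
    · rintro ⟨z, rfl⟩
      show proj f U (m z) = u
      rw [← Scheme.Hom.comp_apply, hm1, Scheme.Hom.comp_apply, hs]
    · intro hx
      obtain ⟨z, hz, -⟩ := Scheme.Pullback.exists_preimage_pullback (f := proj f U) (g := s) x default
        ((Set.mem_singleton_iff.1 hx).trans (hs _).symm)
      refine ⟨hsq.isoPullback.inv z, ?_⟩
      rw [← Scheme.Hom.comp_apply, hsq.isoPullback_inv_fst, hz]
  rw [← h]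
  have := hc _ (s ≫ U.hom)
  exact isPreconnected_range m.continuous

theorem isQuotientMap_proj
    (hsub : ∀ (S' : Scheme.{u}) (g : S' ⟶ S), Topology.IsQuotientMap (pullback.snd f g).base)
    (U : S.Etale) : Topology.IsQuotientMap (proj f U) := by
  have e : proj f U = (pullbackSymmetry U.hom f).hom ≫ pullback.snd f U.hom :=
    (pullbackSymmetry_hom_comp_snd U.hom f).symm
  rw [e]
  exact (hsub U.left U.hom).comp (pullbackSymmetry U.hom f).hom.homeomorph.isQuotientMap

variable (F : EtCoh.Ab S)

theorem bijective_unit_of_submersive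
    (hsub : ∀ (S' : Scheme.{u}) (g : S' ⟶ S), Topology.IsQuotientMap (pullback.snd f g).base)
    (hc : ∀ (Ω : Type u) [Field Ω] [IsAlgClosed Ω] (s : Spec (CommRingCat.of Ω) ⟶ S),
      ConnectedSpace ↥(pullback f s)) :
    Function.Bijective (((EtCoh.pullPushAdj f).unit.app F).hom.app (op (EtCoh.top S))) :=
  bijective_unit_top f F (isPreconnected_proj f hc) (isQuotientMap_proj f hsub)

theorem bijective_unit_of_flat [Flat f] [QuasiCompact f]
    (hc : ∀ (Ω : Type u) [Field Ω] [IsAlgClosed Ω] (s : Spec (CommRingCat.of Ω) ⟶ S),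
      ConnectedSpace ↥(pullback f s)) :
    Function.Bijective (((EtCoh.pullPushAdj f).unit.app F).hom.app (op (EtCoh.top S))) :=
  have := surjective_of_fibres f hc
  bijective_unit_of_submersive f F (fun _ g => Flat.isQuotientMap_of_surjective (pullback.snd f g)) hc

theorem bijective_unit_of_geometricallyConnected [UniversallyOpen f] [GeometricallyConnected f] :
    Function.Bijective (((EtCoh.pullPushAdj f).unit.app F).hom.app (op (EtCoh.top S))) :=
  bijective_unit_of_submersive f F
    (fun _ g => (pullback.snd f g).isOpenMap.isQuotientMap (pullback.snd f g).continuous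
      (pullback.snd f g).surjective)
    fun _ _ _ s => GeometricallyConnected.geometrically_connectedSpace (f := f) s _ _
      (IsPullback.of_hasPullback f s)

theorem bijective_unit_fieldExt {k K : Type u} [Field k] [IsSepClosed k] [Field K] (σ : k →+* K)
    {S : Scheme.{u}} (a : S ⟶ Spec (CommRingCat.of k)) (F : EtCoh.Ab S) :
    Function.Bijective (((EtCoh.pullPushAdj (pullback.fst a (Spec.map (CommRingCat.ofHom σ)))).unit.app
      F).hom.app (op (EtCoh.top S))) := by
  have := FBase64.geometricallyIrreducible_specMap_of_isSepClosed σ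
  have := FBase64.geometricallyConnected_of_geometricallyIrreducible (Spec.map (CommRingCat.ofHom σ))
  have : UniversallyOpen (Spec.map (CommRingCat.ofHom σ)) := Grpd80.universallyOpen_of_field (Iso.refl _) _
  exact bijective_unit_of_geometricallyConnected _ F

end Groth.Agent.PBC20
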