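import Groth.Agent.EtCore45.Vanish
import Groth.Agent.Unr55.UnrQF

/-!
Sections of inverse images along morphisms with connected fibres.
-/

set_option autoImplicit false
set_option backward.isDefEq.respectTransparency.types false
universe u

open CategoryTheory CategoryTheory.Limits AlgebraicGeometry Opposite
open Groth.Agent.Unr55.EtSh
open Groth.Agent.EtCore45 (germ_eq_zero_iff_mem)

namespace Groth.Agent.PBC20

variable {X S : Scheme.{u}}

theorem mem_vanishing_map (G : EtCoh.Ab S) {U V : S.Etale} (g : V ⟶ U) (σ : EtCoh.sect G U) (v : V.left) :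
    v ∈ vanishing G (G.obj.map g.op σ) ↔ g.left v ∈ vanishing G σ := by
  obtain ⟨K, _, _, η, t, rfl⟩ := point_over V v
  rw [← germ_eq_zero_iff_mem G η t, germ_map, germ_eq_zero_iff_mem]
  rfl

theorem mem_vanishing_iff_of_sub (G : EtCoh.Ab S) {U : S.Etale} (a b : EtCoh.sect G U) (z : U.left)
    (h : z ∈ vanishing G (a - b)) : z ∈ vanishing G a ↔ z ∈ vanishing G b := by
  obtain ⟨K, _, _, η, t, rfl⟩ := point_over U z
  rw [← germ_eq_zero_iff_mem G η t, map_sub, sub_eq_zero] at h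
  rw [← germ_eq_zero_iff_mem G η t, ← germ_eq_zero_iff_mem G η t, h]

theorem eq_zero_of_vanishing (G : EtCoh.Ab S) {U : S.Etale} (σ : EtCoh.sect G U)
    (h : ∀ x : U.left, x ∈ vanishing G σ) : σ = 0 := by
  have h' := (map_eq_zero_iff_range_le G σ (𝟙 U)).2 fun x _ => h x
  rwa [op_id, G.obj.map_id, ConcreteCategory.id_apply] at h'

variable (f : X ⟶ S)

/-- The projection of the base change of an etale scheme. -/
noncomputable abbrev proj (U : S.Etale) : ((EtCoh.bc f).obj U).left ⟶ U.left := pullback.fst U.hom f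

variable (F : EtCoh.Ab S)

/-- The unit on sections. -/
noncomputable abbrev unitS (U : S.Etale) (σ : EtCoh.sect F U) :
    EtCoh.sect ((EtCoh.pull f).obj F) ((EtCoh.bc f).obj U) :=
  ((EtCoh.pullPushAdj f).unit.app F).hom.app (op U) σ

theorem unitS_map {U W : S.Etale} (g : W ⟶ U) (σ : EtCoh.sect F U) :
    ((EtCoh.pull f).obj F).obj.map ((EtCoh.bc f).map g).op (unitS f F U σ) =
      unitS f F W (F.obj.map g.op σ) :=
  (ConcreteCategory.congr_hom (((EtCoh.pullPushAdj f).unit.app F).hom.naturality g.op) σ).symm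

theorem mem_vanishing_unitS (U : S.Etale) (σ : EtCoh.sect F U) (x : ((EtCoh.bc f).obj U).left) :
    x ∈ vanishing ((EtCoh.pull f).obj F) (unitS f F U σ) ↔ proj f U x ∈ vanishing F σ := by
  obtain ⟨K, _, _, η, t, rfl⟩ := point_over ((EtCoh.bc f).obj U) x
  have h : germ η ((EtCoh.pull f).obj F) t (unitS f F U σ) = 0 ↔
      germ (η ≫ f) F (ptDown f η t) σ = 0 := by
    conv_lhs => rw [← ptUp_ptDown f η t, ← theta_germ]
    exact map_eq_zero_iff _ (theta_bijective f η F).1
  rw [← germ_eq_zero_iff_mem _ η t, h, germ_eq_zero_iff_mem]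
  rfl

/-- Near every point a section of the inverse image comes from the base. -/
theorem exists_rep {U : S.Etale} (d : EtCoh.sect ((EtCoh.pull f).obj F) ((EtCoh.bc f).obj U))
    (x : ((EtCoh.bc f).obj U).left) :
    ∃ (W : S.Etale) (g : W ⟶ U) (τ : EtCoh.sect F W) (w : ((EtCoh.bc f).obj W).left),
      ((EtCoh.bc f).map g).left w = x ∧ w ∈ vanishing ((EtCoh.pull f).obj F)
        (unitS f F W τ - ((EtCoh.pull f).obj F).obj.map ((EtCoh.bc f).map g).op d) := by
  obtain ⟨K, _, _, η, t, rfl⟩ := point_over ((EtCoh.bc f).obj U) x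
  obtain ⟨a, ha⟩ := (theta_bijective f η F).2 (germ η ((EtCoh.pull f).obj F) t d)
  obtain ⟨V, s, τ, rfl⟩ := exists_germ_eq (η ≫ f) F a
  have : Etale V.hom := V.prop
  have : Etale U.hom := U.prop
  let W : S.Etale := Scheme.Etale.mk (pullback.fst V.hom U.hom ≫ V.hom)
  let p₁ : W ⟶ V := MorphismProperty.Over.homMk (pullback.fst V.hom U.hom) rfl trivial
  let p₂ : W ⟶ U := MorphismProperty.Over.homMk (pullback.snd V.hom U.hom) pullback.condition.symm trivial
  let s' : Pt (η ≫ f) W := mkPt _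
    (pullback.lift (hom _ s) (hom _ (ptDown f η t)) ((Over.w s).trans (Over.w (ptDown f η t)).symm))
    ((pullback.lift_fst_assoc _ _ _ _).trans (Over.w s))
  have e₁ : (Scheme.pointSmallEtale (η ≫ f)).fiber.map p₁ s' = s :=
    hom_ext _ (pullback.lift_fst _ _ _)
  have e₂ : (Scheme.pointSmallEtale (η ≫ f)).fiber.map p₂ s' = ptDown f η t :=
    hom_ext _ (pullback.lift_snd _ _ _)
  have e₃ : (Scheme.pointSmallEtale η).fiber.map ((EtCoh.bc f).map p₂) (ptUp f η s') = t := by
    rw [← ptUp_map, e₂, ptUp_ptDown]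
  refine ⟨W, p₂, F.obj.map p₁.op τ, hom η (ptUp f η s') default, ?_, ?_⟩
  · exact (congrArg (fun q => hom η q default) e₃)
  · rw [← germ_eq_zero_iff_mem, map_sub, germ_map, e₃, ← theta_germ, germ_map, e₁, ha, sub_self]

theorem vanishing_saturated (hconn : ∀ (U : S.Etale) (u : U.left), _root_.IsPreconnected (proj f U ⁻¹' {u}))
    {U : S.Etale} (d : EtCoh.sect ((EtCoh.pull f).obj F) ((EtCoh.bc f).obj U))
    {x y : ((EtCoh.bc f).obj U).left} (hxy : proj f U x = proj f U y)
    (hx : x ∈ vanishing ((EtCoh.pull f).obj F) d) : y ∈ vanishing ((EtCoh.pull f).obj F) d := by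
  by_contra hy
  let u := proj f U x
  let A : Set ((EtCoh.bc f).obj U).left := vanishing ((EtCoh.pull f).obj F) d
  have hloc : ∀ z ∈ proj f U ⁻¹' {u}, z ∉ A →
      ∃ M : Set ((EtCoh.bc f).obj U).left, IsOpen M ∧ z ∈ M ∧ M ∩ proj f U ⁻¹' {u} ⊆ Aᶜ := by
    intro z hz hzA
    obtain ⟨W, g, τ, w, rfl, hw⟩ := exists_rep f F d z
    have : Etale g.left := Unr55.EtSh.etale_left g
    have : LocallyQuasiFinite g.left := Unr55.locallyQuasiFinite_of_formallyUnramified g.left
    let v := proj f W w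
    have hgv : ∀ z', g.left (proj f W z') = proj f U (((EtCoh.bc f).map g).left z') := fun z' => by
      rw [← Scheme.Hom.comp_apply, ← Scheme.Hom.comp_apply, (EtCoh.isPullback_bc_map f g).w]
    have hvu : g.left v = u := (hgv w).trans hz
    obtain ⟨N, hN, hNv⟩ : ∃ N : Set W.left, IsOpen N ∧ N ∩ g.left ⁻¹' {u} = {v} := by
      have hd : DiscreteTopology (g.left ⁻¹' {u}) := (g.left.isDiscrete_preimage_singleton u).to_subtype
      obtain ⟨N, hN, hNv⟩ := isOpen_induced_iff.1 (isOpen_discrete ({⟨v, hvu⟩} : Set (g.left ⁻¹' {u})))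
      refine ⟨N, hN, Set.ext fun a => ⟨fun ⟨h1, h2⟩ => ?_, fun h => ?_⟩⟩
      · have := hNv.le (show (⟨a, h2⟩ : g.left ⁻¹' {u}) ∈ Subtype.val ⁻¹' N from h1)
        exact congrArg Subtype.val (Set.mem_singleton_iff.1 this)
      · rw [Set.mem_singleton_iff.1 h]
        exact ⟨hNv.ge (Set.mem_singleton _), hvu⟩
    let O : Set ((EtCoh.bc f).obj W).left := vanishing ((EtCoh.pull f).obj F)
      (unitS f F W τ - ((EtCoh.pull f).obj F).obj.map ((EtCoh.bc f).map g).op d)
    have hτ : v ∉ vanishing F τ := fun h => hzA ((mem_vanishing_map _ _ d w).1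
      ((mem_vanishing_iff_of_sub _ _ _ w hw).1 ((mem_vanishing_unitS f F W τ w).2 h)))
    have : Etale ((EtCoh.bc f).map g).left := Unr55.EtSh.etale_left _
    refine ⟨((EtCoh.bc f).map g).left '' (O ∩ proj f W ⁻¹' N),
      ((EtCoh.bc f).map g).left.isOpenMap _ ((vanishing _ _).2.inter (hN.preimage (proj f W).continuous)),
      ⟨w, ⟨hw, (hNv.ge (Set.mem_singleton v)).1⟩, rfl⟩, ?_⟩
    rintro _ ⟨⟨z', ⟨hz'O, hz'N⟩, rfl⟩, hz'u⟩ hz'A
    have hv' : proj f W z' = v := hNv.le ⟨hz'N, (hgv z').trans hz'u⟩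
    refine hτ (hv' ▸ (mem_vanishing_unitS f F W τ z').1 ?_)
    exact (mem_vanishing_iff_of_sub _ _ _ z' hz'O).2 ((mem_vanishing_map _ _ d z').2 hz'A)
  choose M hMo hzM hMA using hloc
  let B : Set ((EtCoh.bc f).obj U).left := ⋃ (z) (hz) (hzA), M z hz hzA
  have hB : IsOpen B := isOpen_iUnion fun z => isOpen_iUnion fun hz => isOpen_iUnion fun h => hMo z hz h
  obtain ⟨z, hzu, hzA, hzB⟩ := hconn U u A B (vanishing _ d).2 hB
    (fun z hz => by
      by_cases h : z ∈ A
      · exact Or.inl h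
      · exact Or.inr (Set.mem_iUnion.2 ⟨z, Set.mem_iUnion.2 ⟨hz, Set.mem_iUnion.2 ⟨h, hzM z hz h⟩⟩⟩))
    ⟨x, rfl, hx⟩
    ⟨y, hxy.symm, Set.mem_iUnion.2 ⟨y, Set.mem_iUnion.2 ⟨hxy.symm, Set.mem_iUnion.2 ⟨hy, hzM y hxy.symm hy⟩⟩⟩⟩
  simp only [B, Set.mem_iUnion] at hzB
  obtain ⟨z', hz', hz'A, hzM'⟩ := hzB
  exact hMA z' hz' hz'A ⟨hzM', hzu⟩ hzA

theorem unitS_injective (hsurj : ∀ U : S.Etale, Function.Surjective (proj f U)) (U : S.Etale) :
    Function.Injective (unitS f F U) := by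
  refine (injective_iff_map_eq_zero (((EtCoh.pullPushAdj f).unit.app F).hom.app (op U)).hom).2 fun σ hσ => ?_
  refine eq_zero_of_vanishing F σ fun u => ?_
  obtain ⟨x, rfl⟩ := hsurj U u
  refine (mem_vanishing_unitS f F U σ x).1 ?_
  rw [show unitS f F U σ = 0 from hσ]
  exact range_le_vanishing _ _ (𝟙 _) (by rw [map_zero]) ⟨x, rfl⟩

/-- Global sections do not change along universally submersive maps with connected fibres. -/
theorem bijective_unit_top (hconn : ∀ (U : S.Etale) (u : U.left), _root_.IsPreconnected (proj f U ⁻¹' {u}))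
    (hq : ∀ U : S.Etale, Topology.IsQuotientMap (proj f U)) :
    Function.Bijective (unitS f F (EtCoh.top S)) := by
  have hinj := unitS_injective f F fun U => (hq U).surjective
  refine ⟨hinj _, fun σ => ?_⟩
  let G := (EtCoh.pull f).obj F
  let Sv : Sieve (EtCoh.top S) :=
    { arrows := fun W g => ∃ τ, unitS f F W τ = G.obj.map ((EtCoh.bc f).map g).op σ
      downward_closed := fun {W W' g} ⟨τ, hτ⟩ k => ⟨F.obj.map k.op τ, by
        rw [← unitS_map, hτ, Functor.map_comp, op_comp, Functor.map_comp, ConcreteCategory.comp_apply]⟩ }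
  have hcov : ∀ u, ∃ (W : S.Etale) (g : W ⟶ EtCoh.top S) (v : W.left), Sv g ∧ g.left v = u := fun u => by
    obtain ⟨x, rfl⟩ := (hq (EtCoh.top S)).surjective u
    obtain ⟨W, g, τ, w, rfl, hw⟩ := exists_rep f F σ x
    let d := unitS f F W τ - G.obj.map ((EtCoh.bc f).map g).op σ
    have hsat : proj f W ⁻¹' (proj f W '' (vanishing G d : Set _)) = (vanishing G d : Set _) :=
      Set.Subset.antisymm (fun z ⟨z', hz', e⟩ => vanishing_saturated f F hconn d e hz')
        (Set.subset_preimage_image _ _)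
    let N : W.left.Opens := ⟨proj f W '' (vanishing G d : Set _),
      (hq W).isOpen_preimage.1 (by rw [hsat]; exact (vanishing G d).2)⟩
    refine ⟨openSub W N, openSubι W N ≫ g, ⟨proj f W w, w, hw, rfl⟩,
      ⟨F.obj.map (openSubι W N).op τ, ?_⟩, ?_⟩
    · rw [← unitS_map, Functor.map_comp, op_comp, Functor.map_comp, ConcreteCategory.comp_apply,
        ← sub_eq_zero, ← map_sub]
      refine (map_eq_zero_iff_range_le G d _).2 ?_
      rintro _ ⟨z, rfl⟩
      refine hsat.le ?_
      show proj f W (((EtCoh.bc f).map (openSubι W N)).left z) ∈ (N : Set W.left)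
      rw [← Scheme.Hom.comp_apply, (EtCoh.isPullback_bc_map f (openSubι W N)).w]
      exact (range_openSubι W N).le ⟨_, rfl⟩
    · show g.left (proj f W w) = proj f (EtCoh.top S) (((EtCoh.bc f).map g).left w)
      rw [← Scheme.Hom.comp_apply, ← Scheme.Hom.comp_apply, (EtCoh.isPullback_bc_map f g).w]
  have hSv : Sv ∈ S.smallEtaleTopology (EtCoh.top S) := mem_topology hcov
  let fam : Presieve.FamilyOfElements (F.obj ⋙ forget AddCommGrpCat.{u + 1}) Sv.arrows :=
    fun W g hg => hg.choose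
  have hfam : fam.SieveCompatible := fun W W' g k hg => hinj W' <| by
    refine (Sv.downward_closed hg k).choose_spec.trans ?_
    refine Eq.trans ?_ (unitS_map f F k hg.choose)
    rw [hg.choose_spec, Functor.map_comp, op_comp, Functor.map_comp, ConcreteCategory.comp_apply]
  obtain ⟨τ, hτ, -⟩ := isSheafFor_forget F hSv fam (Presieve.compatible_iff_sieveCompatible fam |>.2 hfam)
  refine ⟨τ, sub_eq_zero.1 (eq_zero_of_vanishing G _ fun x => ?_)⟩
  obtain ⟨W, g, v, hgS, hgv⟩ := hcov (proj f (EtCoh.top S) x)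
  obtain ⟨z, rfl⟩ := (hq W).surjective v
  have h0 : G.obj.map ((EtCoh.bc f).map g).op (unitS f F (EtCoh.top S) τ - σ) = 0 := by
    rw [map_sub, unitS_map, sub_eq_zero]
    exact (congrArg (unitS f F W) (hτ g hgS)).trans hgS.choose_spec
  refine vanishing_saturated f F hconn _ ?_ (range_le_vanishing G _ _ h0 ⟨z, rfl⟩)
  rw [← hgv, ← Scheme.Hom.comp_apply, ← Scheme.Hom.comp_apply, (EtCoh.isPullback_bc_map f g).w]

end Groth.Agent.PBC20
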