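import Groth.Agent.SpPts86.EtLocalStrict
import Mathlib.CategoryTheory.Presentable.Directed
import Mathlib.CategoryTheory.Filtered.Final
import Mathlib.AlgebraicGeometry.Morphisms.Etale

/-!
The strict localisation at a geometric point is the limit of a directed system of affine etale
neighbourhoods.
-/

set_option autoImplicit false
set_option backward.isDefEq.respectTransparency.types false
universe u

open CategoryTheory CategoryTheory.Limits AlgebraicGeometry Opposite
open Groth.Agent.Unr55.EtSh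

namespace Groth.Agent.PBC20

variable {Y : Scheme.{u}} {Ω : Type u} [Field Ω] [IsSepClosed Ω] (ξ : Spec (CommRingCat.of Ω) ⟶ Y)

/-- The category of etale neighbourhoods. -/
abbrev Elts := (Scheme.pointSmallEtale ξ).fiber.Elements

/-- A directed system of affine etale neighbourhoods which is cofinal among all neighbourhoods. -/
structure NbhdSys (α : Type u) [Preorder α] where
  /-- the neighbourhoods -/
  E : αᵒᵖ ⥤ Elts ξ
  initial : E.Initial
  affine : ∀ a, IsAffine (E.obj a).1.left

/-- The model algebra. -/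
abbrev Mod (R : CommRingCat.{u}) (n : ℕ) (s : Finset (MvPolynomial (Fin n) R)) : Type u :=
  MvPolynomial (Fin n) R ⧸ Ideal.span (s : Set (MvPolynomial (Fin n) R))

/-- Its map to the base chart. -/
noncomputable abbrev modMap (R : CommRingCat.{u}) (n : ℕ) (s : Finset (MvPolynomial (Fin n) R)) :
    Spec (CommRingCat.of (Mod R n s)) ⟶ Spec R :=
  Spec.map (CommRingCat.ofHom (algebraMap R (Mod R n s)))

/-- Every neighbourhood is refined by a model. -/
theorem exists_model {R : CommRingCat.{u}} (j : Spec R ⟶ Y) [IsOpenImmersion j]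
    (hmem : ξ default ∈ Set.range j) (U : Y.Etale) (t : Pt ξ U) :
    ∃ (n : ℕ) (s : Finset (MvPolynomial (Fin n) R)) (χ : Mod R n s →+* Ω)
      (a : Spec (CommRingCat.of (Mod R n s)) ⟶ U.left),
      Etale (modMap R n s) ∧ Spec.map (CommRingCat.ofHom χ) ≫ modMap R n s ≫ j = ξ ∧
      a ≫ U.hom = modMap R n s ≫ j ∧ Spec.map (CommRingCat.ofHom χ) ≫ a = hom ξ t := by
  have : Etale U.hom := U.prop
  let l : Spec (CommRingCat.of Ω) ⟶ Spec R := IsOpenImmersion.lift j ξ (by
    rintro _ ⟨a, rfl⟩
    rw [Subsingleton.elim a default]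
    exact hmem)
  have hl : l ≫ j = ξ := IsOpenImmersion.lift_fac _ _ _
  let W : Y.Etale := Scheme.Etale.mk (pullback.fst U.hom j ≫ U.hom)
  let w : Pt ξ W := mkPt ξ (pullback.lift (hom ξ t) l ((Over.w t).trans hl.symm))
    ((pullback.lift_fst_assoc _ _ _ _).trans (Over.w t))
  obtain ⟨N, g, hg⟩ := exists_nbhd w
  have hgw : g.left ≫ pullback.fst U.hom j ≫ U.hom = N.p := Over.w g.hom
  obtain ⟨φ, hφ⟩ := Spec.map_surjective (g.left ≫ pullback.snd U.hom j : Spec N.A ⟶ Spec R)
  have hφj : Spec.map φ ≫ j = N.p :=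
    (congrArg (· ≫ j) hφ).trans ((Category.assoc _ _ _).trans
      ((congrArg (g.left ≫ ·) pullback.condition.symm).trans hgw))
  have : Etale (Spec.map φ) := by
    have : Etale (Spec.map φ ≫ j) := by rw [hφj]; infer_instance
    exact MorphismProperty.of_postcomp @Etale (W' := @Etale) (Spec.map φ) j inferInstance this
  algebraize [φ.hom]
  have : Algebra.FinitePresentation R N.A :=
    (RingHom.etale_algebraMap.1 ((HasRingHomProperty.Spec_iff (P := @Etale)).1 this)).finitePresentation
  obtain ⟨n, p, hp, hker⟩ := Algebra.FinitePresentation.out (R := R) (A := N.A)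
  obtain ⟨s, hs⟩ := hker
  let e : Mod R n s ≃ₐ[R] N.A :=
    (Ideal.quotientEquivAlgOfEq R hs).trans (Ideal.quotientKerAlgEquivOfSurjective hp)
  let i : CommRingCat.of (Mod R n s) ≅ N.A := RingEquiv.toCommRingCatIso e.toRingEquiv
  have hcomp : CommRingCat.ofHom (algebraMap R (Mod R n s)) = φ ≫ i.inv := by
    rw [← cancel_mono i.hom, Category.assoc, Iso.inv_hom_id, Category.comp_id]
    exact CommRingCat.hom_ext e.toAlgHom.comp_algebraMap
  have hm : modMap R n s = Spec.map i.inv ≫ Spec.map φ := by rw [← Spec.map_comp, ← hcomp]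
  refine ⟨n, s, (i.hom ≫ N.χ).hom, Spec.map i.inv ≫ g.left ≫ pullback.fst U.hom j,
    by rw [hm]; infer_instance, ?_, ?_, ?_⟩
  · rw [CommRingCat.ofHom_hom, hm, Category.assoc, hφj, ← Category.assoc, ← Spec.map_comp,
      Iso.inv_hom_id_assoc, N.w]
  · rw [hm, Category.assoc, Category.assoc, Category.assoc, hφj]
    exact congrArg (_ ≫ ·) hgw
  · rw [CommRingCat.ofHom_hom, ← Category.assoc, ← Spec.map_comp, Iso.inv_hom_id_assoc, ← Category.assoc]
    exact (congrArg (fun q => hom ξ q ≫ pullback.fst U.hom j) hg).trans (pullback.lift_fst _ _ _)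

theorem exists_nbhdSys : ∃ (α : Type u) (_ : Preorder α) (_ : IsDirected α (· ≤ ·)) (_ : Nonempty α),
    Nonempty (NbhdSys ξ α) := by
  obtain ⟨R, j, hj, hmem, -⟩ := Scheme.exists_affine_mem_range_and_range_subset
    (x := ξ default) (U := (⊤ : Y.Opens)) trivial
  have : IsOpenImmersion j := hj
  let K : Type u := Σ (n : ℕ) (s : Finset (MvPolynomial (Fin n) R)),
    {χ : Mod R n s →+* Ω //
      Etale (modMap R n s) ∧ Spec.map (CommRingCat.ofHom χ) ≫ modMap R n s ≫ j = ξ}
  let obj : K → Elts ξ := fun k =>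
    have := k.2.2.2.1
    have : Etale (modMap R k.1 k.2.1 ≫ j) := inferInstance
    ⟨Scheme.Etale.mk (modMap R k.1 k.2.1 ≫ j),
      mkPt ξ (Spec.map (CommRingCat.ofHom k.2.2.1)) k.2.2.2.2⟩
  have hcof : ∀ d : Elts ξ, ∃ k : InducedCategory (Elts ξ) obj, Nonempty ((inducedFunctor obj).obj k ⟶ d) := by
    rintro ⟨U, t⟩
    obtain ⟨n, s, χ, a, h1, h2, h3, h4⟩ := exists_model ξ j hmem U t
    exact ⟨⟨n, s, χ, h1, h2⟩,
      ⟨⟨MorphismProperty.Over.homMk a h3 trivial, Over.OverMorphism.ext h4⟩⟩⟩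
  have : IsCofiltered (Elts ξ) := (Scheme.pointSmallEtale ξ).isCofiltered
  have : IsCofiltered (InducedCategory (Elts ξ) obj) :=
    IsCofiltered.of_exists_of_isCofiltered_of_fullyFaithful (inducedFunctor obj) hcof
  have : (inducedFunctor obj).Initial :=
    Functor.initial_of_exists_of_isCofiltered_of_fullyFaithful (inducedFunctor obj) hcof
  obtain ⟨α, _, _, _, F, _⟩ := IsFiltered.exists_directed (InducedCategory (Elts ξ) obj)ᵒᵖ
  exact ⟨α, inferInstance, inferInstance, inferInstance,
    ⟨{ E := F.leftOp ⋙ inducedFunctor obj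
       initial := inferInstance
       affine := fun a => inferInstanceAs (IsAffine (Spec _)) }⟩⟩

variable {ξ} {α : Type u} [Preorder α] (N : NbhdSys ξ α)

/-- The neighbourhood of index `a`. -/
noncomputable abbrev NbhdSys.U (a : α) : Y.Etale := (N.E.obj (op a)).1

/-- Its point. -/
noncomputable abbrev NbhdSys.pt (a : α) : Pt ξ (N.U a) := (N.E.obj (op a)).2

/-- The system as schemes. -/
noncomputable def NbhdSys.diag : αᵒᵖ ⥤ Scheme.{u} :=
  N.E ⋙ CategoryOfElements.π _ ⋙ Scheme.Etale.forget Y ⋙ CategoryTheory.Over.forget Y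

/-- The cone of the strict localisation. -/
noncomputable def NbhdSys.cone : Cone N.diag where
  pt := Spec (EtBase.etaleLocalRing ξ)
  π :=
    { app := fun a => SpPts86.theta ξ (N.E.obj a).2
      naturality := fun a b f => by
        refine (Category.id_comp _).trans ?_
        rw [← (N.E.map f).2]
        exact SpPts86.theta_map ξ _ _ }

theorem theta_isoSpec {U : Y.Etale} (t : Pt ξ U) [IsAffine U.left] :
    SpPts86.theta ξ t ≫ U.left.isoSpec.hom =
      Spec.map ((Scheme.pointSmallEtale ξ).toPresheafFiber U t (EtBase.OO Y)) := by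
  obtain ⟨M, g, hg⟩ := exists_nbhd t
  rw [← SpPts86.theta_eq ξ t M g hg, Category.assoc, ← Scheme.isoSpec_hom_naturality, ← Category.assoc,
    Scheme.isoSpec_Spec_hom, ← Spec.map_comp, ← Spec.map_comp]
  congr 1
  refine ConcreteCategory.hom_ext _ _ fun x => ?_
  rw [← hg]
  refine Eq.trans ?_ ((Scheme.pointSmallEtale ξ).toPresheafFiber_w_apply g M.pt (EtBase.OO Y) x)
  show (Scheme.pointSmallEtale ξ).toPresheafFiber M.U M.pt (EtBase.OO Y) ((Scheme.ΓSpecIso M.A).inv
    ((Scheme.ΓSpecIso M.A).hom (g.left.appTop x))) = _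
  rw [Iso.hom_inv_id_apply]
  rfl

/-- The strict localisation is the limit of the system. -/
noncomputable def NbhdSys.isLimit : IsLimit N.cone := by
  have := N.initial
  let G : αᵒᵖ ⥤ CommRingCat.{u}ᵒᵖ :=
    (N.E.op ⋙ (CategoryOfElements.π _).op ⋙ EtBase.OO Y).rightOp
  let cc : Cocone G.leftOp := ((Scheme.pointSmallEtale ξ).presheafFiberCocone (EtBase.OO Y)).whisker N.E.op
  have hcc : IsColimit cc := (Functor.Final.isColimitWhiskerEquiv N.E.op _).symm
    ((Scheme.pointSmallEtale ξ).isColimitPresheafFiberCocone (EtBase.OO Y))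
  have h1 : IsLimit (Scheme.Spec.mapCone (coneOfCoconeLeftOp cc)) :=
    isLimitOfPreserves Scheme.Spec (isLimitConeOfCoconeLeftOp G hcc)
  have : ∀ a, IsAffine (N.diag.obj a) := N.affine
  let e : N.diag ≅ G ⋙ Scheme.Spec := NatIso.ofComponents (fun a => (N.diag.obj a).isoSpec)
    fun {a b} f => (Scheme.isoSpec_hom_naturality (N.diag.map f)).symm
  refine IsLimit.ofIsoLimit ((IsLimit.postcomposeHomEquiv e.symm _).symm h1)
    (Cone.ext (Iso.refl _) fun a => ?_)
  have : IsAffine (N.E.obj a).1.left := N.affine a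
  refine Eq.trans ?_ (Category.id_comp _).symm
  show Spec.map _ ≫ _ = SpPts86.theta ξ (N.E.obj a).2
  rw [← cancel_mono (N.E.obj a).1.left.isoSpec.hom, theta_isoSpec]
  exact (Category.assoc _ _ _).trans ((congrArg (_ ≫ ·) (N.E.obj a).1.left.isoSpec.inv_hom_id).trans (Category.comp_id _))

end Groth.Agent.PBC20
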