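import Groth.Agent.EtLim45.Degree0
import Groth.Agent.EtCore45.EtalePull
import Groth.Agent.Unr55.Et.Unit

/-!
Sections of an inverse image on a limit of etale schemes over the base.
-/

set_option autoImplicit false
set_option backward.isDefEq.respectTransparency.types false
universe u

open CategoryTheory CategoryTheory.Limits AlgebraicGeometry Opposite
open Groth.Agent.Unr55.EtSh Groth.Agent.EtLim45

namespace Groth.Agent.PBC20

theorem hom_fiberMap {Z : Scheme.{u}} {K : Type u} [Field K] [IsSepClosed K] (η : Spec (CommRingCat.of K) ⟶ Z)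
    {U V : Z.Etale} (g : V ⟶ U) (t : Pt η V) :
    hom η ((Scheme.pointSmallEtale η).fiber.map g t) = hom η t ≫ g.left := rfl

theorem hom_ptDown {Z W : Scheme.{u}} (f : Z ⟶ W) {K : Type u} [Field K] [IsSepClosed K]
    (η : Spec (CommRingCat.of K) ⟶ Z) {V : W.Etale} (t : Pt η ((EtCoh.bc f).obj V)) :
    hom (η ≫ f) (ptDown f η t) = hom η t ≫ pullback.fst V.hom f := rfl

variable {X : Scheme.{u}} {α : Type u} [Preorder α] (Us : αᵒᵖ ⥤ X.Etale)

/-- The underlying system of schemes. -/
noncomputable abbrev schemes : αᵒᵖ ⥤ Scheme.{u} :=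
  Us ⋙ Scheme.Etale.forget X ⋙ CategoryTheory.Over.forget X

theorem stage_w {a b : αᵒᵖ} (h : a ⟶ b) : (schemes Us).map h ≫ (Us.obj b).hom = (Us.obj a).hom :=
  Over.w (Us.map h).hom

/-- Etale schemes over the stages as etale schemes over the base. -/
noncomputable def toBase : Obj (schemes Us) ⥤ X.Etale where
  obj A := (EtShriek.compEtale (Us.obj (op A.idx)).hom (hj := (Us.obj (op A.idx)).prop)).obj A.obj
  map {A B} f := MorphismProperty.Over.homMk f.left (by
    show f.left ≫ B.obj.hom ≫ (Us.obj (op B.idx)).hom = A.obj.hom ≫ (Us.obj (op A.idx)).hom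
    exact (Category.assoc _ _ _).symm.trans ((congrArg (· ≫ _) f.w).trans
      ((Category.assoc _ _ _).trans (congrArg (A.obj.hom ≫ ·) (stage_w Us _))))) trivial
  map_id _ := MorphismProperty.Over.Hom.ext rfl
  map_comp _ _ := MorphismProperty.Over.Hom.ext rfl

variable (F : EtCoh.Ab X)

/-- The restrictions of a sheaf to the stages. -/
noncomputable def sys : Sys (schemes Us) where
  P := (toBase Us).op ⋙ F.obj
  isSheaf j := by
    have : Etale (Us.obj (op j)).hom := (Us.obj (op j)).prop
    refine Presheaf.isSheaf_of_iso_iff ?_ |>.mp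
      ((EtShriek.restrAlong (Us.obj (op j)).hom).obj F).property
    exact NatIso.ofComponents (fun V => Iso.refl _) fun {V W} g => by
      refine (Category.comp_id _).trans (Eq.trans ?_ (Category.id_comp _).symm)
      exact congrArg F.obj.map (congrArg Quiver.Hom.op (MorphismProperty.Over.Hom.ext rfl))

variable {Us} (c : Cone (schemes Us)) (q : c.pt ⟶ X) (hq : ∀ a, c.π.app a ≫ (Us.obj a).hom = q)

/-- Base change to the vertex sits inside the base change along `q`. -/
noncomputable def kappa (A : Obj (schemes Us)) : (Phi c).obj A ⟶ (EtCoh.bc q).obj ((toBase Us).obj A) :=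
  MorphismProperty.Over.homMk (pullback.lift (pullback.fst A.obj.hom (pr c A.idx))
    (pullback.snd A.obj.hom (pr c A.idx)) (by
      show _ ≫ A.obj.hom ≫ (Us.obj (op A.idx)).hom = _
      exact (Category.assoc _ _ _).symm.trans ((congrArg (· ≫ _) pullback.condition).trans
        ((Category.assoc _ _ _).trans (congrArg (pullback.snd A.obj.hom (pr c A.idx) ≫ ·) (hq _))))))
    (pullback.lift_snd _ _ _) trivial

theorem kappa_nat {A B : Obj (schemes Us)} (f : A ⟶ B) :
    (Phi c).map f ≫ kappa c q hq B = kappa c q hq A ≫ (EtCoh.bc q).map ((toBase Us).map f) := by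
  refine MorphismProperty.Over.Hom.ext (pullback.hom_ext ?_ ?_)
  · refine (Category.assoc _ _ _).trans ((congrArg (_ ≫ ·) (pullback.lift_fst _ _ _)).trans ?_)
    refine (Phi_fst c f).trans (Eq.trans ?_ (Category.assoc _ _ _).symm)
    refine Eq.trans ?_ (congrArg (_ ≫ ·) (EtCoh.isPullback_bc_map q ((toBase Us).map f)).w.symm)
    exact (congrArg (· ≫ f.left) (pullback.lift_fst _ _ _).symm).trans (Category.assoc _ _ _)
  · refine (Category.assoc _ _ _).trans ((congrArg (_ ≫ ·) (pullback.lift_snd _ _ _)).trans ?_)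
    refine (pullback.lift_snd _ _ _).trans (Eq.trans ?_ (Category.assoc _ _ _).symm)
    exact ((congrArg (_ ≫ ·) (pullback.lift_snd _ _ _)).trans (pullback.lift_snd _ _ _)).symm

/-- Restriction to the vertex. -/
noncomputable def toVertex : (sys Us F).P ⟶ (Phi c).op ⋙ ((EtCoh.pull q).obj F).obj where
  app A := ((EtCoh.pullPushAdj q).unit.app F).hom.app (op ((toBase Us).obj A.unop)) ≫
    ((EtCoh.pull q).obj F).obj.map (kappa c q hq A.unop).op
  naturality A B f := ConcreteCategory.hom_ext _ _ fun x => by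
    show ((EtCoh.pull q).obj F).obj.map (kappa c q hq B.unop).op
        (((EtCoh.pullPushAdj q).unit.app F).hom.app _ (F.obj.map ((toBase Us).map f.unop).op x)) =
      ((EtCoh.pull q).obj F).obj.map ((Phi c).map f.unop).op
        (((EtCoh.pull q).obj F).obj.map (kappa c q hq A.unop).op
          (((EtCoh.pullPushAdj q).unit.app F).hom.app _ x))
    refine (congrArg _ (NatTrans.naturality_apply ((EtCoh.pullPushAdj q).unit.app F).hom
      ((toBase Us).map f.unop).op x)).trans ?_
    refine (gmap_comp _ _ _ _).symm.trans (Eq.trans ?_ (gmap_comp _ _ _ _))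
    exact congrArg (fun k : (Phi c).obj B.unop ⟶ (EtCoh.bc q).obj ((toBase Us).obj A.unop) =>
      ((EtCoh.pull q).obj F).obj.map k.op (((EtCoh.pullPushAdj q).unit.app F).hom.app _ x))
      (kappa_nat c q hq f.unop).symm

theorem germ_toVertex {K : Type u} [Field K] [IsSepClosed K] (η : Spec (CommRingCat.of K) ⟶ c.pt)
    (A : Obj (schemes Us)) (t : Pt η ((Phi c).obj A)) (x : EtCoh.sect F ((toBase Us).obj A)) :
    germ η ((EtCoh.pull q).obj F) t ((toVertex F c q hq).app (op A) x) =
      theta q η F (germ (η ≫ q) F (ptDown q η ((Scheme.pointSmallEtale η).fiber.map (kappa c q hq A) t)) x) := by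
  rw [theta_germ, ptUp_ptDown, ← germ_map]
  rfl

/-- The stalks on the vertex are the colimits of the stalks at the stages. -/
theorem stalkLim_toVertex [Nonempty α] : StalkLim c (sys Us F) (toVertex F c q hq) where
  surj K _ _ η g := by
    obtain ⟨b, rfl⟩ := (theta_bijective q η F).2 g
    obtain ⟨W, s, τ, rfl⟩ := exists_germ_eq (η ≫ q) F b
    let a₀ := Classical.arbitrary α
    let h₀ := (Us.obj (op a₀)).hom
    let A : Obj (schemes Us) := ⟨a₀, (EtCoh.bc h₀).obj W⟩
    let p : (toBase Us).obj A ⟶ W :=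
      MorphismProperty.Over.homMk (pullback.fst W.hom h₀) pullback.condition trivial
    let t : Pt η ((Phi c).obj A) := mkPt _
      (pullback.lift (pullback.lift (hom _ s) (η ≫ pr c a₀) (by
          exact (Over.w s).trans ((congrArg (η ≫ ·) (hq (op a₀))).symm.trans (Category.assoc _ _ _).symm)))
        η (pullback.lift_snd _ _ _))
      (pullback.lift_snd _ _ _)
    refine ⟨A, t, F.obj.map p.op τ, ?_⟩
    rw [germ_toVertex, germ_map]
    refine congrArg (fun s' => theta q η F (germ (η ≫ q) F s' τ)) (Groth.Agent.Unr55.EtSh.hom_ext _ ?_)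
    show ((hom η t ≫ (kappa c q hq A).left) ≫ pullback.fst _ q) ≫ p.left = hom _ s
    refine (congrArg (· ≫ p.left) ((Category.assoc _ _ _).trans
      (congrArg (_ ≫ ·) (pullback.lift_fst _ _ _)))).trans ?_
    exact (congrArg (· ≫ p.left) (pullback.lift_fst _ _ _)).trans (pullback.lift_fst _ _ _)
  inj K _ _ η A t x hx := by
    rw [germ_toVertex] at hx
    have hx' := (theta_bijective q η F).1 (hx.trans (map_zero _).symm)
    obtain ⟨V, g, t', h1, h2⟩ := (germ_eq_zero_iff (η ≫ q) F _ x).1 hx'
    let gl : V.left ⟶ A.obj.left := g.left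
    have : Etale gl := Groth.Agent.Unr55.EtSh.etale_left g
    have : Etale A.obj.hom := A.obj.prop
    let Bo : (St (schemes Us) A.idx).Etale := Scheme.Etale.mk (gl ≫ A.obj.hom)
    let f : (⟨A.idx, Bo⟩ : Obj (schemes Us)) ⟶ A :=
      (incl A.idx).map (MorphismProperty.Over.homMk gl rfl trivial : Bo ⟶ A.obj)
    let e : (toBase Us).obj ⟨A.idx, Bo⟩ ⟶ V := MorphismProperty.Over.homMk (𝟙 V.left) (by
      show 𝟙 _ ≫ V.hom = (g.left ≫ A.obj.hom) ≫ (Us.obj (op A.idx)).hom
      exact (Category.id_comp _).trans ((Over.w g.hom).symm.trans (Category.assoc _ _ _).symm)) trivial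
    have hpt : hom _ t' ≫ gl = hom η t ≫ pullback.fst A.obj.hom (pr c A.idx) := by
      have e1 := congrArg (fun s => hom (η ≫ q) s) h1
      simp only [hom_fiberMap, hom_ptDown] at e1
      refine e1.trans ((Category.assoc _ _ _).trans ?_)
      exact congrArg (hom η t ≫ ·) (pullback.lift_fst _ _ _)
    have hw : hom η t ≫ pullback.snd A.obj.hom (pr c A.idx) = η := Over.w t
    have hcond : hom (η ≫ q) t' ≫ (gl ≫ A.obj.hom) = η ≫ pr c A.idx := by
      refine (Category.assoc _ _ _).symm.trans ((congrArg (· ≫ A.obj.hom) hpt).trans ?_)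
      refine (Category.assoc _ _ _).trans ((congrArg (hom η t ≫ ·)
        (pullback.condition (f := A.obj.hom) (g := pr c A.idx))).trans ?_)
      exact (Category.assoc _ _ _).symm.trans (congrArg (· ≫ pr c A.idx) hw)
    let t'' : Pt η ((Phi c).obj ⟨A.idx, Bo⟩) := mkPt _
      (pullback.lift (hom (η ≫ q) t') η hcond) (pullback.lift_snd _ _ hcond)
    refine ⟨⟨A.idx, Bo⟩, f, t'', Groth.Agent.Unr55.EtSh.hom_ext _ (pullback.hom_ext ?_ ?_), ?_⟩
    · refine (Category.assoc _ _ _).trans ((congrArg (_ ≫ ·) (Phi_fst c f)).trans ?_)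
      exact (Category.assoc _ _ _).symm.trans ((congrArg (· ≫ _) (pullback.lift_fst _ _ _)).trans hpt)
    · exact (Category.assoc _ _ _).trans ((congrArg (_ ≫ ·) (pullback.lift_snd _ _ _)).trans
        ((pullback.lift_snd _ _ _).trans (Over.w t).symm))
    · show F.obj.map ((toBase Us).map f).op x = 0
      have : (toBase Us).map f = e ≫ g := MorphismProperty.Over.Hom.ext (Category.id_comp _).symm
      rw [this, op_comp, F.obj.map_comp, ConcreteCategory.comp_apply, h2, map_zero]

include hq in
/-- Sections of the inverse image over the vertex come from the stages. -/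
theorem exists_stage_top [IsDirected α (· ≤ ·)] [Nonempty α] (hc : IsLimit c)
    [∀ (a b : αᵒᵖ) (h : a ⟶ b), IsAffineHom ((schemes Us).map h)]
    [∀ a, CompactSpace ↥((schemes Us).obj a)] [∀ a, QuasiSeparatedSpace ↥((schemes Us).obj a)]
    (σ : EtCoh.sect ((EtCoh.pull q).obj F) (EtCoh.top c.pt)) :
    ∃ (a : α) (x : EtCoh.sect F (Us.obj (op a))) (κ : EtCoh.top c.pt ⟶ (EtCoh.bc q).obj (Us.obj (op a))),
      (κ.left ≫ pullback.fst (Us.obj (op a)).hom q = c.π.app (op a)) ∧
      σ = ((EtCoh.pull q).obj F).obj.map κ.op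
        (((EtCoh.pullPushAdj q).unit.app F).hom.app (op (Us.obj (op a))) x) := by
  let a₀ := Classical.arbitrary α
  let A₀ : Obj (schemes Us) := ⟨a₀, EtCoh.top _⟩
  let π₀ : (Phi c).obj A₀ ⟶ EtCoh.top c.pt :=
    MorphismProperty.Over.homMk (pullback.snd (𝟙 _) (pr c a₀)) (Category.comp_id _) trivial
  obtain ⟨n, -, h, x, hx⟩ := exists_stage_section hc (stalkLim_toVertex F c q hq) (A := A₀) (QQ.top a₀)
    (((EtCoh.pull q).obj F).obj.map π₀.op σ) a₀
  let B : Obj (schemes Us) := ⟨n, (EtCoh.bc (tr (schemes Us) h)).obj (EtCoh.top _)⟩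
  let i : Us.obj (op n) ⟶ (toBase Us).obj B := MorphismProperty.Over.homMk
    (pullback.lift (tr (schemes Us) h) (𝟙 _) ((Category.comp_id _).trans (Category.id_comp _).symm)) (by
      exact ((Category.assoc _ _ _).symm.trans (congrArg (· ≫ _) (pullback.lift_snd _ _ _))).trans
        (Category.id_comp _)) trivial
  let j : (toBase Us).obj B ⟶ Us.obj (op n) :=
    MorphismProperty.Over.homMk (pullback.snd _ _) rfl trivial
  have hji : j ≫ i = 𝟙 _ := MorphismProperty.Over.Hom.ext (pullback.hom_ext
    ((Category.assoc _ _ _).trans ((congrArg (_ ≫ ·) (pullback.lift_fst _ _ _)).trans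
      (pullback.condition.symm.trans ((Category.comp_id _).trans (Category.id_comp _).symm))))
    ((Category.assoc _ _ _).trans ((congrArg (_ ≫ ·) (pullback.lift_snd _ _ _)).trans
      ((Category.comp_id _).trans (Category.id_comp _).symm))))
  let κ : EtCoh.top c.pt ⟶ (EtCoh.bc q).obj (Us.obj (op n)) := MorphismProperty.Over.homMk
    (pullback.lift (pr c n) (𝟙 _) ((hq (op n)).trans (Category.id_comp _).symm))
    (pullback.lift_snd _ _ _) trivial
  let d : EtCoh.top c.pt ⟶ (Phi c).obj B := MorphismProperty.Over.homMk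
    (pullback.lift (pullback.lift (pr c a₀) (pr c n) ((Category.comp_id _).trans (pr_tr c h).symm))
      (𝟙 _) ((pullback.lift_snd _ _ _).trans (Category.id_comp _).symm))
    (pullback.lift_snd _ _ _) trivial
  refine ⟨n, F.obj.map i.op x, κ, pullback.lift_fst _ _ _, ?_⟩
  have hd : d ≫ (Phi c).map (proj h (EtCoh.top _)) ≫ π₀ = 𝟙 _ :=
    (EtCore.topIsTerminal c.pt).hom_ext _ _
  have h1 : σ = ((EtCoh.pull q).obj F).obj.map d.op
      (((EtCoh.pull q).obj F).obj.map ((Phi c).map (proj h (EtCoh.top _))).op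
        (((EtCoh.pull q).obj F).obj.map π₀.op σ)) := by
    rw [← gmap_comp, ← gmap_comp]
    exact (gmap_id _ _ hd σ).symm
  rw [h1, ← hx]
  show ((EtCoh.pull q).obj F).obj.map d.op
      (((EtCoh.pull q).obj F).obj.map (kappa c q hq B).op
        (((EtCoh.pullPushAdj q).unit.app F).hom.app (op ((toBase Us).obj B)) x)) = _
  have h2 : x = F.obj.map j.op (F.obj.map i.op x) := by
    rw [← gmap_comp]
    exact (gmap_id F _ hji x).symm
  conv_lhs => rw [h2]
  rw [show ((EtCoh.pullPushAdj q).unit.app F).hom.app (op ((toBase Us).obj B)) (F.obj.map j.op (F.obj.map i.op x)) =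
    ((EtCoh.pull q).obj F).obj.map ((EtCoh.bc q).map j).op
      (((EtCoh.pullPushAdj q).unit.app F).hom.app (op (Us.obj (op n))) (F.obj.map i.op x)) from
      NatTrans.naturality_apply ((EtCoh.pullPushAdj q).unit.app F).hom j.op _,
    ← gmap_comp, ← gmap_comp]
  refine congrArg (fun k : EtCoh.top c.pt ⟶ (EtCoh.bc q).obj (Us.obj (op n)) => ((EtCoh.pull q).obj F).obj.map k.op
    (((EtCoh.pullPushAdj q).unit.app F).hom.app (op (Us.obj (op n))) (F.obj.map i.op x))) ?_
  refine MorphismProperty.Over.Hom.ext (pullback.hom_ext ?_ ?_)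
  · show ((d.left ≫ (kappa c q hq B).left) ≫ ((EtCoh.bc q).map j).left) ≫ pullback.fst _ q =
      κ.left ≫ pullback.fst _ q
    refine (Category.assoc _ _ _).trans ((congrArg (_ ≫ ·) (EtCoh.isPullback_bc_map q j).w).trans ?_)
    refine (Category.assoc _ _ _).symm.trans ((congrArg (· ≫ j.left) ((Category.assoc _ _ _).trans
      ((congrArg (_ ≫ ·) (pullback.lift_fst _ _ _)).trans (pullback.lift_fst _ _ _)))).trans ?_)
    exact (pullback.lift_snd _ _ _).trans (pullback.lift_fst _ _ _).symm
  · exact (Over.w (d ≫ kappa c q hq B ≫ (EtCoh.bc q).map j).hom).trans (Over.w κ.hom).symm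

end Groth.Agent.PBC20
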