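import Groth.Agent.EtCore45.MVSect
import Groth.Agent.PBC20.Conn

/-!
Units of inverse images and composition, on sections.
-/

set_option autoImplicit false
set_option backward.isDefEq.respectTransparency.types false
universe u

open CategoryTheory CategoryTheory.Limits AlgebraicGeometry Opposite
open Groth.Agent.EtCore45.MV (unitSect unitSect_map app_map map_map map_endo iso_app_inv)

namespace Groth.Agent.PBC20

variable {W U X : Scheme.{u}} (f : W ⟶ U) (j : U ⟶ X) {h : W ⟶ X} (w : f ≫ j = h) (A : EtCoh.Ab X)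

/-- The comparison of inverse images along a composite. -/
noncomputable def compE : (EtCoh.pull f).obj ((EtCoh.pull j).obj A) ≅ (EtCoh.pull h).obj A :=
  ((EtCore.pullComp f j).symm ≪≫ EtCore.pullCongr w).app A

theorem bijective_iso_app {Z : Scheme.{u}} {B C : EtCoh.Ab Z} (e : B ≅ C) (V : Z.Etale) :
    Function.Bijective (e.hom.hom.app (op V)) := by
  have : IsIso e.hom.hom :=
    inferInstanceAs (IsIso ((sheafToPresheaf Z.smallEtaleTopology AddCommGrpCat.{u + 1}).map e.hom))
  exact ConcreteCategory.bijective_of_isIso (e.hom.hom.app (op V))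

theorem compE_unit {V : X.Etale} (d : (EtCoh.bc f).obj ((EtCoh.bc j).obj V) ⟶ (EtCoh.bc h).obj V)
    (hd : d.left ≫ pullback.fst V.hom h = pullback.fst (pullback.snd V.hom j) f ≫ pullback.fst V.hom j)
    (a : EtCoh.sect A V) :
    (compE f j w A).hom.hom.app _ (unitS f _ _ (unitS j A V a)) =
      ((EtCoh.pull h).obj A).obj.map d.op (unitS h A V a) := by
  subst w
  let adj2 := ((EtCoh.pullPushAdj j).comp (EtCoh.pullPushAdj f)).ofNatIsoRight (EtCoh.pushComp j f)
  have h1 := Adjunction.unit_leftAdjointUniq_hom_app (EtCoh.pullPushAdj (f ≫ j)) adj2 A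
  let i : (EtCoh.bc (f ≫ j)).obj V ≅ (EtCoh.bc f).obj ((EtCoh.bc j).obj V) :=
    (MorphismProperty.Over.pullbackComp (P := EtCoh.etaleMP) (Q := ⊤) f j).app V
  let e := (EtCore.pullComp f j).app A
  let PP := (EtCoh.pull f).obj ((EtCoh.pull j).obj A)
  have h2 : e.hom.hom.app _ (unitSect (f ≫ j) A V a) =
      PP.obj.map i.hom.op (unitSect f _ _ (unitSect j A V a)) :=
    (ConcreteCategory.congr_hom (congrArg (fun k => k.hom.app (op V)) h1) a : _)
  have h3 : unitSect f _ _ (unitSect j A V a) =
      e.hom.hom.app _ (((EtCoh.pull (f ≫ j)).obj A).obj.map i.inv.op (unitSect (f ≫ j) A V a)) := by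
    exact ((app_map e.hom i.inv _).trans ((congrArg _ h2).trans
      ((map_map PP _ _ _).trans (map_endo PP _ i.inv_hom_id _)))).symm
  have hi : i.inv = d := by
    rw [← cancel_epi i.hom, i.hom_inv_id]
    refine (MorphismProperty.Over.Hom.ext (pullback.hom_ext ?_ ?_)).symm
    · refine (Category.assoc _ _ _).trans ((congrArg (i.hom.left ≫ ·) hd).trans ?_)
      exact (MorphismProperty.Over.pullbackComp_left_fst_fst f j V).trans (Category.id_comp _).symm
    · exact (Over.w (i.hom ≫ d).hom).trans (Category.id_comp _).symm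
  subst hi
  show (e.inv ≫ 𝟙 _).hom.app _ (unitSect f _ _ (unitSect j A V a)) = _
  rw [h3, Category.comp_id]
  exact iso_app_inv e _ _

theorem compE_map {V : X.Etale} {T : W.Etale} (m : T ⟶ (EtCoh.bc f).obj ((EtCoh.bc j).obj V))
    (m' : T ⟶ (EtCoh.bc h).obj V)
    (hm : m.left ≫ pullback.fst (pullback.snd V.hom j) f ≫ pullback.fst V.hom j = m'.left ≫ pullback.fst V.hom h)
    (a : EtCoh.sect A V) :
    (compE f j w A).hom.hom.app (op T) (((EtCoh.pull f).obj _).obj.map m.op (unitS f _ _ (unitS j A V a))) =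
      ((EtCoh.pull h).obj A).obj.map m'.op (unitS h A V a) := by
  let d : (EtCoh.bc f).obj ((EtCoh.bc j).obj V) ⟶ (EtCoh.bc h).obj V := MorphismProperty.Over.homMk
    (pullback.lift (pullback.fst (pullback.snd V.hom j) f ≫ pullback.fst V.hom j)
      (pullback.snd (pullback.snd V.hom j) f) (by
        rw [Category.assoc, pullback.condition, ← Category.assoc]
        exact (congrArg (· ≫ j) pullback.condition).trans ((Category.assoc _ _ _).trans (congrArg (_ ≫ ·) w))))
    (pullback.lift_snd _ _ _) trivial
  refine (app_map (compE f j w A).hom m _).trans ?_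
  refine (congrArg _ (compE_unit f j w A d (pullback.lift_fst _ _ _) a)).trans ?_
  refine (map_map _ _ _ _).trans ?_
  refine congrArg (fun k : T ⟶ (EtCoh.bc h).obj V => ((EtCoh.pull h).obj A).obj.map k.op (unitS h A V a)) ?_
  refine MorphismProperty.Over.Hom.ext (pullback.hom_ext ?_ ?_)
  · exact (Category.assoc _ _ _).trans ((congrArg (m.left ≫ ·) (pullback.lift_fst _ _ _)).trans hm)
  · exact (Over.w (m ≫ d).hom).trans (Over.w m'.hom).symm

/-- The map from the final object. -/
noncomputable def mtop : EtCoh.top W ⟶ (EtCoh.bc f).obj (EtCoh.top U) :=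
  MorphismProperty.Over.homMk (pullback.lift f (𝟙 W) ((Category.comp_id _).trans (Category.id_comp _).symm))
    (pullback.lift_snd _ _ _) trivial

instance : IsIso (mtop f) := by
  refine ⟨(EtCore.topIsTerminal W).from _, (EtCore.topIsTerminal W).hom_ext _ _, ?_⟩
  refine MorphismProperty.Over.Hom.ext (pullback.hom_ext ?_ ?_)
  · refine (Category.assoc _ _ _).trans ((congrArg (_ ≫ ·) (pullback.lift_fst _ _ _)).trans ?_)
    refine Eq.trans ?_ (Category.id_comp _).symm
    refine (congrArg (· ≫ f) ((Category.comp_id _).symm.trans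
      (Over.w ((EtCore.topIsTerminal W).from ((EtCoh.bc f).obj (EtCoh.top U))).hom))).trans ?_
    exact pullback.condition.symm.trans (Category.comp_id _)
  · exact (Over.w ((EtCore.topIsTerminal W).from ((EtCoh.bc f).obj (EtCoh.top U)) ≫ mtop f).hom).trans
      (Category.id_comp _).symm

/-- The unit on global sections. -/
noncomputable def unitTop (B : EtCoh.Ab U) (a : EtCoh.sect B (EtCoh.top U)) :
    EtCoh.sect ((EtCoh.pull f).obj B) (EtCoh.top W) :=
  ((EtCoh.pull f).obj B).obj.map (mtop f).op (unitS f B _ a)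

theorem unitTop_bijective_iff (B : EtCoh.Ab U) :
    Function.Bijective (unitTop f B) ↔ Function.Bijective (unitS f B (EtCoh.top U)) := by
  have h := ConcreteCategory.bijective_of_isIso (((EtCoh.pull f).obj B).obj.map (mtop f).op)
  exact ⟨fun H => (h.of_comp_iff' _).1 H, fun H => h.comp H⟩

theorem compE_unitTop (a : EtCoh.sect A (EtCoh.top X)) :
    (compE f j w A).hom.hom.app _ (unitTop f _ (unitTop j A a)) = unitTop h A a := by
  refine Eq.trans ?_ (compE_map f j w A (mtop f ≫ (EtCoh.bc f).map (mtop j)) (mtop h) ?_ a)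
  · refine congrArg _ ?_
    show ((EtCoh.pull f).obj _).obj.map (mtop f).op (((EtCoh.pullPushAdj f).unit.app _).hom.app _
      (((EtCoh.pull j).obj A).obj.map (mtop j).op (unitS j A _ a))) = _
    refine (congrArg _ (NatTrans.naturality_apply ((EtCoh.pullPushAdj f).unit.app _).hom (mtop j).op
      (unitS j A _ a))).trans ?_
    exact map_map _ _ _ _
  · refine Eq.trans ?_ (pullback.lift_fst _ _ _).symm
    show ((mtop f).left ≫ ((EtCoh.bc f).map (mtop j)).left) ≫ _ ≫ _ = h
    rw [Category.assoc]
    refine (congrArg ((mtop f).left ≫ ·) ((Category.assoc _ _ _).symm.trans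
      ((congrArg (· ≫ pullback.fst _ j) (EtCoh.isPullback_bc_map f (mtop j)).w).trans (Category.assoc _ _ _)))).trans ?_
    refine (congrArg (fun k => (mtop f).left ≫ pullback.fst _ f ≫ k) (pullback.lift_fst _ _ _)).trans ?_
    exact (Category.assoc _ _ _).symm.trans ((congrArg (· ≫ j) (pullback.lift_fst _ _ _)).trans w)

/-- Bijectivity of a triple composite. -/
theorem bij3 {A B C D : Type*} (f : A → B) (g : B → C) (h : C → D) (k : A → D) (e : ∀ a, h (g (f a)) = k a)
    (hf : Function.Bijective f) (hg : Function.Bijective g) (hh : Function.Bijective h) : Function.Bijective k :=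
  (funext e : h ∘ g ∘ f = k) ▸ hh.comp (hg.comp hf)

include w in
theorem unitTop_bijective_comp (hf : ∀ B, Function.Bijective (unitTop f B)) (hj : Function.Bijective (unitTop j A)) :
    Function.Bijective (unitTop h A) :=
  bij3 _ _ _ _ (compE_unitTop f j w A) hj (hf _) (bijective_iso_app (compE f j w A) (EtCoh.top W))

end Groth.Agent.PBC20
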