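import Groth.Agent.PBC20.NbhdLim
import Groth.Agent.PBC20.StageSys
import Groth.Agent.PBC20.UnitComp
import Groth.Agent.PBC20.ConnGeom
import Groth.Agent.Gabber51.Hyp
import Groth.Agent.Unr55.Et.Open

/-!
Stalks of proper direct images.
-/

set_option autoImplicit false
set_option backward.isDefEq.respectTransparency.types false
universe u

open CategoryTheory CategoryTheory.Limits AlgebraicGeometry Opposite IsLocalRing
open Groth.Agent.Unr55.EtSh

attribute [local instance high] CategoryStruct.toQuiver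

namespace Groth.Agent.PBC20

variable {X Y : Scheme.{u}} (f : X ⟶ Y) {Ω : Type u} [Field Ω] [IsSepClosed Ω]
  (ξ : Spec (CommRingCat.of Ω) ⟶ Y)

attribute [local instance] SpPts86.isLocalRing_etaleLocalRing

theorem evalPt_theta {U : Y.Etale} (t : Pt ξ U) : Spec.map (evalPt ξ) ≫ SpPts86.theta ξ t = hom ξ t := by
  obtain ⟨N, g, hg⟩ := exists_nbhd t
  rw [← SpPts86.theta_eq ξ t N g hg, ← Category.assoc, ← Spec.map_comp, germ_evalPt, ← hg]
  rfl

/-- The proper scheme over the strict localisation. -/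
noncomputable abbrev Xsh : Scheme.{u} := pullback f (SpPts86.eta ξ)

/-- The inclusion of the geometric fibre. -/
noncomputable abbrev jsh : pullback f ξ ⟶ Xsh f ξ :=
  pullback.lift (pullback.fst f ξ) (pullback.snd f ξ ≫ Spec.map (evalPt ξ))
    (by rw [pullback.condition, Category.assoc, SpPts86.spec_evalPt_eta])

variable {ξ} in
theorem sect_map_unitS {S T : Scheme.{u}} (j : T ⟶ S) (A : EtCoh.Ab S) {U : S.Etale} (g : EtCoh.top S ⟶ U)
    (a : EtCoh.sect A U) :
    unitTop j A (A.obj.map g.op a) =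
      ((EtCoh.pull j).obj A).obj.map (mtop j ≫ (EtCoh.bc j).map g).op (unitS j A U a) :=
  (congrArg _ (unitS_map j A g a).symm).trans (EtCore45.MV.map_map _ _ _ _)

theorem unitTop_bijective_jsh [IsProper f] (A : EtCoh.Ab (Xsh f ξ)) :
    Function.Bijective (unitTop (jsh f ξ) A) := by
  obtain ⟨hH, hS⟩ := isStrictlyHenselian_etaleLocalRing ξ
  let R : Type u := EtBase.etaleLocalRing ξ
  let g : Xsh f ξ ⟶ Spec (CommRingCat.of R) := pullback.snd f (SpPts86.eta ξ)
  let r : Spec (CommRingCat.of (ResidueField R)) ⟶ Spec (CommRingCat.of R) :=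
    Spec.map (CommRingCat.ofHom (Ideal.Quotient.mk (maximalIdeal R)))
  let σ : ResidueField R →+* Ω := Ideal.Quotient.lift _ (evalPt ξ).hom fun a ha => by
    by_contra h
    exact (mem_maximalIdeal _).1 ha ((isUnit_iff_evalPt_ne_zero a).2 h)
  let s : Spec (CommRingCat.of Ω) ⟶ Spec (CommRingCat.of (ResidueField R)) := Spec.map (CommRingCat.ofHom σ)
  have hsr : s ≫ r = Spec.map (evalPt ξ) := by
    show Spec.map _ ≫ Spec.map _ = _
    rw [← Spec.map_comp]
    rfl
  have : CompactSpace (Xsh f ξ) := QuasiCompact.compactSpace_of_compactSpace g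
  have : QuasiSeparatedSpace (Xsh f ξ) := quasiSeparatedSpace_of_quasiSeparated g
  have : IsClosedImmersion r := IsClosedImmersion.spec_of_surjective _ Ideal.Quotient.mk_surjective
  have hi : Function.Bijective (unitTop (pullback.fst g r) A) :=
    (unitTop_bijective_iff _ A).2 (Gabber51.bijective _
      (Gabber51.connFinite_of_henselian _ R (maximalIdeal R) g (EtConn51.range_fst R (maximalIdeal R) g)) A)
  have hi₀ : ∀ B, Function.Bijective (unitTop (pullback.fst (pullback.snd g r) s) B) := fun B =>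
    (unitTop_bijective_iff _ B).2 (bijective_unit_fieldExt σ (pullback.snd g r) B)
  have sq := (IsPullback.of_hasPullback (pullback.snd g r) s).paste_horiz (IsPullback.of_hasPullback g r)
  have sq' : IsPullback (pullback.fst f ξ) (pullback.snd f ξ) f ξ := IsPullback.of_hasPullback f ξ
  have sq'' : IsPullback (jsh f ξ) (pullback.snd f ξ) g (s ≫ r) := by
    refine IsPullback.of_right ?_ ?_ (IsPullback.of_hasPullback f (SpPts86.eta ξ))
    · rw [pullback.lift_fst, hsr, SpPts86.spec_evalPt_eta]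
      exact sq'
    · rw [pullback.lift_snd, hsr]
  let e := sq''.isoIsPullback _ _ sq
  have he : ∀ B, Function.Bijective (unitTop e.hom B) := fun B =>
    (unitTop_bijective_iff _ B).2 (bijective_unit_of_flat e.hom B fun K _ _ z => by
      have : IsIso (pullback.snd e.hom z) := inferInstance
      exact (pullback.snd e.hom z).homeomorph.symm.surjective.connectedSpace
        (pullback.snd e.hom z).homeomorph.symm.continuous)
  exact unitTop_bijective_comp e.hom _ (sq''.isoIsPullback_hom_fst _ _ sq) A he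
    (unitTop_bijective_comp _ _ rfl A hi₀ hi)

variable {α : Type u} [Preorder α] (N : NbhdSys ξ α)

/-- The neighbourhoods pulled back. -/
noncomputable abbrev upSys : αᵒᵖ ⥤ X.Etale := N.E ⋙ CategoryOfElements.π _ ⋙ EtCoh.bc f

/-- The cone of the pulled back neighbourhoods. -/
noncomputable def upCone : Cone (schemes (upSys f ξ N)) where
  pt := Xsh f ξ
  π :=
    { app := fun a => pullback.lift (pullback.snd f (SpPts86.eta ξ) ≫ N.cone.π.app a)
        (pullback.fst f (SpPts86.eta ξ)) (by
          show (_ ≫ SpPts86.theta ξ (N.E.obj a).2) ≫ _ = _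
          exact (Category.assoc _ _ _).trans ((congrArg (_ ≫ ·) (SpPts86.theta_hom ξ (N.E.obj a).2)).trans
            pullback.condition.symm))
      naturality := fun a b h => by
        refine (Category.id_comp _).trans (pullback.hom_ext ?_ ?_)
        · refine (pullback.lift_fst _ _ _).trans (Eq.trans ?_ (Category.assoc _ _ _).symm)
          refine Eq.trans ?_ (congrArg (_ ≫ ·) (EtCoh.isPullback_bc_map f (N.E.map h).1).w.symm)
          refine Eq.trans ?_ (Category.assoc _ _ _)
          refine Eq.trans ?_ (congrArg (· ≫ (N.E.map h).1.left) (pullback.lift_fst _ _ _).symm)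
          exact (congrArg (pullback.snd f (SpPts86.eta ξ) ≫ ·) (N.cone.w h).symm).trans (Category.assoc _ _ _).symm
        · refine (pullback.lift_snd _ _ _).trans (Eq.trans ?_ (Category.assoc _ _ _).symm)
          refine Eq.trans ?_ (congrArg (_ ≫ ·) (Over.w ((EtCoh.bc f).map (N.E.map h).1).hom).symm)
          exact (pullback.lift_snd _ _ _).symm }

theorem upCone_w (a : αᵒᵖ) :
    (upCone f ξ N).π.app a ≫ ((upSys f ξ N).obj a).hom = pullback.fst f (SpPts86.eta ξ) :=
  pullback.lift_snd _ _ _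

/-- The proper scheme over the strict localisation is the limit. -/
noncomputable def upIsLimit [IsDirected α (· ≤ ·)] [Nonempty α] : IsLimit (upCone f ξ N) := by
  let sY : Cone (schemes (upSys f ξ N)) → Cone N.diag := fun S =>
    { pt := S.pt
      π :=
        { app := fun a => S.π.app a ≫ pullback.fst (N.E.obj a).1.hom f
          naturality := fun a b h => by
            refine (Category.id_comp _).trans ?_
            refine (congrArg (· ≫ _) (S.w h).symm).trans ?_
            refine (Category.assoc _ _ _).trans ?_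
            refine (congrArg (S.π.app a ≫ ·) (EtCoh.isPullback_bc_map f (N.E.map h).1).w).trans ?_
            exact (Category.assoc _ _ _).symm } }
  let a₀ : αᵒᵖ := op (Classical.arbitrary α)
  have hsnd : ∀ (S : Cone (schemes (upSys f ξ N))) (a : αᵒᵖ),
      S.π.app a ≫ ((upSys f ξ N).obj a).hom = S.π.app a₀ ≫ ((upSys f ξ N).obj a₀).hom := by
    intro S a
    obtain ⟨b, h₁, h₂⟩ := exists_ge_ge a.unop a₀.unop
    have e : ∀ (c : αᵒᵖ) (h : op b ⟶ c),
        S.π.app c ≫ ((upSys f ξ N).obj c).hom = S.π.app (op b) ≫ ((upSys f ξ N).obj (op b)).hom := fun c h =>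
      (congrArg (· ≫ _) (S.w h).symm).trans ((Category.assoc _ _ _).trans
        (congrArg (S.π.app (op b) ≫ ·) (stage_w (upSys f ξ N) h)))
    exact (e a (homOfLE h₁).op).trans (e a₀ (homOfLE h₂).op).symm
  refine
    { lift := fun S => pullback.lift (S.π.app a₀ ≫ ((upSys f ξ N).obj a₀).hom) (N.isLimit.lift (sY S)) ?_
      fac := fun S a => ?_
      uniq := fun S m hm => ?_ }
  · show _ = N.isLimit.lift (sY S) ≫ SpPts86.eta ξ
    rw [← SpPts86.theta_hom ξ (N.E.obj a₀).2]
    refine ((Category.assoc _ _ _).trans ((congrArg (S.π.app a₀ ≫ ·) pullback.condition.symm).trans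
      (Category.assoc _ _ _).symm)).trans ?_
    exact (congrArg (· ≫ (N.E.obj a₀).1.hom) (N.isLimit.fac (sY S) a₀).symm).trans (Category.assoc _ _ _)
  · refine pullback.hom_ext ?_ ?_
    · refine (Category.assoc _ _ _).trans ((congrArg (_ ≫ ·) (pullback.lift_fst _ _ _)).trans ?_)
      refine (Category.assoc _ _ _).symm.trans ((congrArg (· ≫ N.cone.π.app a) (pullback.lift_snd _ _ _)).trans ?_)
      exact N.isLimit.fac (sY S) a
    · refine (Category.assoc _ _ _).trans ((congrArg (_ ≫ ·) (pullback.lift_snd _ _ _)).trans ?_)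
      exact (pullback.lift_fst _ _ _).trans (hsnd S a).symm
  · refine pullback.hom_ext ?_ ?_
    · refine Eq.trans ?_ (pullback.lift_fst _ _ _).symm
      rw [← hm a₀, Category.assoc]
      exact congrArg (m ≫ ·) (upCone_w f ξ N a₀).symm
    · refine Eq.trans ?_ (pullback.lift_snd _ _ _).symm
      refine N.isLimit.uniq (sY S) _ fun a => ?_
      show (m ≫ pullback.snd f (SpPts86.eta ξ)) ≫ N.cone.π.app a = S.π.app a ≫ pullback.fst (N.E.obj a).1.hom f
      refine Eq.trans ?_ (congrArg (· ≫ _) (hm a))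
      refine (Category.assoc _ _ _).trans (Eq.trans ?_ (Category.assoc _ _ _).symm)
      exact congrArg (m ≫ ·) (pullback.lift_fst _ _ _).symm

variable {ξ}

/-- A point of a neighbourhood on the geometric fibre. -/
noncomputable def eTop {U : Y.Etale} (t : Pt ξ U) :
    EtCoh.top (pullback f ξ) ⟶ (EtCoh.bc (pullback.fst f ξ)).obj ((EtCoh.bc f).obj U) :=
  MorphismProperty.Over.homMk
    (pullback.lift (pullback.lift (pullback.snd f ξ ≫ hom ξ t) (pullback.fst f ξ)
      ((Category.assoc _ _ _).trans ((congrArg (_ ≫ ·) (Over.w t)).trans pullback.condition.symm))) (𝟙 _)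
      ((pullback.lift_snd _ _ _).trans (Category.id_comp _).symm))
    (pullback.lift_snd _ _ _) trivial

theorem eTop_map {U V : Y.Etale} (g : V ⟶ U) (t : Pt ξ V) :
    eTop f t ≫ (EtCoh.bc (pullback.fst f ξ)).map ((EtCoh.bc f).map g) =
      eTop f ((Scheme.pointSmallEtale ξ).fiber.map g t) := by
  refine MorphismProperty.Over.Hom.ext (pullback.hom_ext ?_ ?_)
  · refine (Category.assoc _ _ _).trans
      ((congrArg (_ ≫ ·) (EtCoh.isPullback_bc_map (pullback.fst f ξ) ((EtCoh.bc f).map g)).w).trans ?_)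
    refine (Category.assoc _ _ _).symm.trans ((congrArg (· ≫ ((EtCoh.bc f).map g).left) (pullback.lift_fst _ _ _)).trans ?_)
    refine Eq.trans ?_ (pullback.lift_fst _ _ _).symm
    refine pullback.hom_ext ?_ ?_
    · refine (Category.assoc _ _ _).trans ((congrArg (_ ≫ ·) (EtCoh.isPullback_bc_map f g).w).trans ?_)
      refine (Category.assoc _ _ _).symm.trans ((congrArg (· ≫ g.left) (pullback.lift_fst _ _ _)).trans ?_)
      exact (Category.assoc _ _ _).trans (pullback.lift_fst _ _ _).symm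
    · exact (Category.assoc _ _ _).trans ((congrArg (_ ≫ ·) (Over.w ((EtCoh.bc f).map g).hom)).trans
        ((pullback.lift_snd _ _ _).trans (pullback.lift_snd _ _ _).symm))
  · exact (Over.w (eTop f t ≫ (EtCoh.bc (pullback.fst f ξ)).map ((EtCoh.bc f).map g)).hom).trans
      (pullback.lift_snd _ _ _).symm

variable (ξ) (F : EtCoh.Ab X)

/-- Restriction of a section to the geometric fibre. -/
noncomputable def phiApp (U : Y.Etale) (t : Pt ξ U) :
    ((EtCoh.push f).obj F).obj.obj (op U) ⟶
      ((EtCoh.pull (pullback.fst f ξ)).obj F).obj.obj (op (EtCoh.top (pullback f ξ))) :=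
  ((EtCoh.pullPushAdj (pullback.fst f ξ)).unit.app F).hom.app (op ((EtCoh.bc f).obj U)) ≫
    ((EtCoh.pull (pullback.fst f ξ)).obj F).obj.map (eTop f t).op

theorem phiApp_apply (U : Y.Etale) (t : Pt ξ U) (a : EtCoh.sect F ((EtCoh.bc f).obj U)) :
    phiApp f ξ F U t a = ((EtCoh.pull (pullback.fst f ξ)).obj F).obj.map (eTop f t).op
      (unitS (pullback.fst f ξ) F _ a) := rfl

/-- The map from the stalk. -/
noncomputable def phi : (EtCoh.stalk ξ).obj ((EtCoh.push f).obj F) ⟶
    ((EtCoh.pull (pullback.fst f ξ)).obj F).obj.obj (op (EtCoh.top (pullback f ξ))) :=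
  (Scheme.pointSmallEtale ξ).presheafFiberDesc (P := ((EtCoh.push f).obj F).obj) (phiApp f ξ F)
    fun V U g t => ConcreteCategory.hom_ext _ _ fun a => by
      show ((EtCoh.pull (pullback.fst f ξ)).obj F).obj.map (eTop f t).op
          (unitS (pullback.fst f ξ) F _ (F.obj.map ((EtCoh.bc f).map g).op a)) = _
      refine (congrArg _ (unitS_map (pullback.fst f ξ) F ((EtCoh.bc f).map g) a).symm).trans ?_
      refine (EtCore45.MV.map_map _ _ _ _).trans ?_
      exact congrArg (fun k : EtCoh.top (pullback f ξ) ⟶ (EtCoh.bc (pullback.fst f ξ)).obj ((EtCoh.bc f).obj U) =>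
        ((EtCoh.pull (pullback.fst f ξ)).obj F).obj.map k.op (unitS (pullback.fst f ξ) F _ a)) (eTop_map f g t)

theorem phi_germ {U : Y.Etale} (t : Pt ξ U) (a : EtCoh.sect F ((EtCoh.bc f).obj U)) :
    phi f ξ F (germ ξ ((EtCoh.push f).obj F) t a) = phiApp f ξ F U t a :=
  ConcreteCategory.congr_hom ((Scheme.pointSmallEtale ξ).toPresheafFiber_presheafFiberDesc
    (P := ((EtCoh.push f).obj F).obj) (phiApp f ξ F) _ U t) a

theorem phi_injective [IsProper f] : Function.Injective (phi f ξ F) := by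
  refine (injective_iff_map_eq_zero (phi f ξ F).hom).2 fun s hs => ?_
  obtain ⟨U, t, a, rfl⟩ := exists_germ_eq ξ _ s
  rw [phi_germ, phiApp_apply] at hs
  let p := pullback.fst f ξ
  let pr : ((EtCoh.bc f).obj U).left ⟶ U.left := pullback.fst U.hom f
  have : IsProper pr := inferInstanceAs (IsProper (pullback.fst U.hom f))
  let V : Set ((EtCoh.bc f).obj U).left := vanishing F a
  let u := hom ξ t default
  have hV : pr ⁻¹' {u} ⊆ V := by
    intro x hx
    obtain ⟨z, hz, -⟩ := Scheme.Pullback.exists_preimage_pullback (f := pr) (g := hom ξ t) x default hx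
    let m : pullback pr (hom ξ t) ⟶ pullback f ξ :=
      pullback.lift (pullback.fst pr (hom ξ t) ≫ pullback.snd U.hom f) (pullback.snd pr (hom ξ t)) (by
        refine (Category.assoc _ _ _).trans ((congrArg (pullback.fst pr (hom ξ t) ≫ ·)
          (pullback.condition (f := U.hom) (g := f)).symm).trans ?_)
        refine (Category.assoc _ _ _).symm.trans ((congrArg (· ≫ U.hom) pullback.condition).trans ?_)
        exact (Category.assoc _ _ _).trans (congrArg (pullback.snd pr (hom ξ t) ≫ ·) (Over.w t)))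
    have hm : m ≫ (eTop f t).left ≫ pullback.fst ((EtCoh.bc f).obj U).hom p = pullback.fst pr (hom ξ t) := by
      refine (congrArg (m ≫ ·) (pullback.lift_fst _ _ _)).trans (pullback.hom_ext ?_ ?_)
      · refine (Category.assoc _ _ _).trans ((congrArg (m ≫ ·) (pullback.lift_fst _ _ _)).trans ?_)
        refine (Category.assoc _ _ _).symm.trans ((congrArg (· ≫ hom ξ t) (pullback.lift_snd _ _ _)).trans ?_)
        exact pullback.condition.symm
      · exact (Category.assoc _ _ _).trans ((congrArg (m ≫ ·) (pullback.lift_snd _ _ _)).trans (pullback.lift_fst _ _ _))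
    have := (map_eq_zero_iff_range_le _ _ (eTop f t)).1 hs ⟨m z, rfl⟩
    rw [← hz, ← hm, Scheme.Hom.comp_apply, Scheme.Hom.comp_apply]
    exact (mem_vanishing_unitS p F _ a _).1 this
  have hcl : IsClosed (pr '' Vᶜ) := pr.isClosedMap _ (vanishing F a).2.isClosed_compl
  let O : U.left.Opens := ⟨(pr '' Vᶜ)ᶜ, hcl.isOpen_compl⟩
  have hu : u ∈ O := fun ⟨x, hx, hxu⟩ => hx (hV hxu)
  refine (germ_eq_zero_iff ξ _ t a).2 ⟨_, openSubι U O, ptOpen O t hu, map_ptOpen O t hu, ?_⟩
  refine (map_eq_zero_iff_range_le F a ((EtCoh.bc f).map (openSubι U O))).2 ?_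
  rintro _ ⟨y, rfl⟩
  by_contra hy
  have h1 := (range_openSubι U O).le (Set.mem_range_self (pullback.fst (openSub U O).hom f y))
  refine h1 ⟨_, hy, ?_⟩
  refine (Scheme.Hom.comp_apply _ _ _).symm.trans ?_
  exact (congrArg (fun k => k y) (EtCoh.isPullback_bc_map f (openSubι U O)).w).trans
    (Scheme.Hom.comp_apply _ _ _)

theorem qcqs_pullback {A B C : Scheme.{u}} (v : A ⟶ C) (g : B ⟶ C) [IsProper g] [IsAffine A] :
    CompactSpace ↥(pullback v g) ∧ QuasiSeparatedSpace ↥(pullback v g) :=
  ⟨QuasiCompact.compactSpace_of_compactSpace (pullback.fst v g),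
    quasiSeparatedSpace_of_quasiSeparated (pullback.fst v g)⟩

theorem qcqs_bc [IsProper f] (U : Y.Etale) (h : IsAffine U.left) :
    CompactSpace ↥((EtCoh.bc f).obj U).left ∧ QuasiSeparatedSpace ↥((EtCoh.bc f).obj U).left :=
  @qcqs_pullback U.left X Y U.hom f _ h

theorem isAffineHom_bc_map {U V : Y.Etale} (g : U ⟶ V) (hU : IsAffine U.left) (hV : IsAffine V.left) :
    IsAffineHom ((EtCoh.bc f).map g).left := by
  let k : U.left ⟶ V.left := g.left
  have hk : IsAffineHom k := isAffineHom_of_isAffine k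
  exact MorphismProperty.of_isPullback (P := @IsAffineHom) (EtCoh.isPullback_bc_map f g).flip hk

theorem jsh_upCone {α : Type u} [Preorder α] (N : NbhdSys ξ α) (a : α) :
    jsh f ξ ≫ (upCone f ξ N).π.app (op a) =
      (eTop f (N.pt a)).left ≫ pullback.fst ((EtCoh.bc f).obj (N.U a)).hom (pullback.fst f ξ) := by
  refine Eq.trans ?_ (pullback.lift_fst _ _ _).symm
  refine pullback.hom_ext ?_ ?_
  · refine (Category.assoc _ _ _).trans ((congrArg (_ ≫ ·) (pullback.lift_fst _ _ _)).trans ?_)
    refine Eq.trans ?_ (pullback.lift_fst _ _ _).symm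
    refine (Category.assoc _ _ _).symm.trans ((congrArg (· ≫ _) (pullback.lift_snd _ _ _)).trans ?_)
    exact (Category.assoc _ _ _).trans (congrArg (pullback.snd f ξ ≫ ·) (evalPt_theta ξ (N.pt a)))
  · refine (Category.assoc _ _ _).trans ((congrArg (_ ≫ ·) (pullback.lift_snd _ _ _)).trans ?_)
    exact (pullback.lift_fst _ _ _).trans (pullback.lift_snd _ _ _).symm

theorem mtop_bc_fst {W U Z : Scheme.{u}} (j : W ⟶ U) (q : U ⟶ Z) {V : Z.Etale}
    (κ : EtCoh.top U ⟶ (EtCoh.bc q).obj V) (c : U ⟶ V.left) (hκ : κ.left ≫ pullback.fst V.hom q = c) :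
    (mtop j ≫ (EtCoh.bc j).map κ).left ≫ pullback.fst (pullback.snd V.hom q) j ≫ pullback.fst V.hom q =
      j ≫ c := by
  subst hκ
  show ((mtop j).left ≫ ((EtCoh.bc j).map κ).left) ≫ _ ≫ _ = _
  rw [Category.assoc]
  refine (congrArg ((mtop j).left ≫ ·) ((Category.assoc _ _ _).symm.trans
    ((congrArg (· ≫ pullback.fst V.hom q) (EtCoh.isPullback_bc_map j κ).w).trans (Category.assoc _ _ _)))).trans ?_
  exact (Category.assoc _ _ _).symm.trans (congrArg (· ≫ κ.left ≫ pullback.fst V.hom q) (pullback.lift_fst _ _ _))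

theorem compE_stage {W U Z : Scheme.{u}} (j : W ⟶ U) (q : U ⟶ Z) {h : W ⟶ Z} (w : j ≫ q = h)
    (A : EtCoh.Ab Z) {V : Z.Etale} (κ : EtCoh.top U ⟶ (EtCoh.bc q).obj V)
    (e : EtCoh.top W ⟶ (EtCoh.bc h).obj V) (c : U ⟶ V.left) (hκ : κ.left ≫ pullback.fst V.hom q = c)
    (he : j ≫ c = e.left ≫ pullback.fst V.hom h) (x : EtCoh.sect A V) :
    (compE j q w A).hom.hom.app (op (EtCoh.top W))
      (unitTop j ((EtCoh.pull q).obj A) (((EtCoh.pull q).obj A).obj.map κ.op
        (((EtCoh.pullPushAdj q).unit.app A).hom.app (op V) x))) =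
      ((EtCoh.pull h).obj A).obj.map e.op (unitS h A V x) := by
  refine Eq.trans ?_ (compE_map j q w A (mtop j ≫ (EtCoh.bc j).map κ) e ((mtop_bc_fst j q κ c hκ).trans he) x)
  exact congrArg (ConcreteCategory.hom ((compE j q w A).hom.hom.app (op (EtCoh.top W))))
    (sect_map_unitS j ((EtCoh.pull q).obj A) κ (unitS q A V x))

theorem surjective_of_limit {W Z : Scheme.{u}} {α : Type u} [Preorder α] [IsDirected α (· ≤ ·)] [Nonempty α]
    {Us : αᵒᵖ ⥤ Z.Etale} (c : Cone (schemes Us)) (hc : IsLimit c) (q : c.pt ⟶ Z)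
    (hq : ∀ a, c.π.app a ≫ (Us.obj a).hom = q)
    [∀ (a b : αᵒᵖ) (h : a ⟶ b), IsAffineHom ((schemes Us).map h)]
    [∀ a, CompactSpace ↥((schemes Us).obj a)] [∀ a, QuasiSeparatedSpace ↥((schemes Us).obj a)]
    (j : W ⟶ c.pt) {h : W ⟶ Z} (w : j ≫ q = h) (A : EtCoh.Ab Z)
    (hj : Function.Bijective (unitTop j ((EtCoh.pull q).obj A)))
    (e : ∀ a : α, EtCoh.top W ⟶ (EtCoh.bc h).obj (Us.obj (op a)))
    (he : ∀ a, j ≫ c.π.app (op a) = (e a).left ≫ pullback.fst (Us.obj (op a)).hom h)
    (σ : EtCoh.sect ((EtCoh.pull h).obj A) (EtCoh.top W)) :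
    ∃ (a : α) (x : EtCoh.sect A (Us.obj (op a))),
      ((EtCoh.pull h).obj A).obj.map (e a).op (unitS h A _ x) = σ := by
  obtain ⟨τ, hτ⟩ := (bijective_iso_app (compE j q w A) _).2 σ
  obtain ⟨τ', rfl⟩ := hj.2 τ
  obtain ⟨a, x, κ, hκ, rfl⟩ := exists_stage_top A c q hq hc τ'
  refine ⟨a, x, Eq.trans ?_ hτ⟩
  exact (compE_stage j q w A κ (e a) _ hκ (he a) x).symm

theorem phi_surjective [IsProper f] : Function.Surjective (phi f ξ F) := by
  intro σ
  obtain ⟨α, _, _, _, ⟨N⟩⟩ := exists_nbhdSys ξ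
  have haff : ∀ a b h, IsAffineHom ((schemes (upSys f ξ N)).map (X := a) (Y := b) h) := fun a b h =>
    isAffineHom_bc_map f _ (N.affine a) (N.affine b)
  have hqc : ∀ a, CompactSpace ↥((schemes (upSys f ξ N)).obj a) := fun a => (qcqs_bc f _ (N.affine a)).1
  have hqs : ∀ a, QuasiSeparatedSpace ↥((schemes (upSys f ξ N)).obj a) := fun a =>
    (qcqs_bc f _ (N.affine a)).2
  obtain ⟨a, x, hx⟩ := surjective_of_limit (upCone f ξ N) (upIsLimit f ξ N) (pullback.fst f (SpPts86.eta ξ))
    (upCone_w f ξ N) (jsh f ξ) (pullback.lift_fst _ _ _) F (unitTop_bijective_jsh f ξ _)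
    (fun a => eTop f (N.pt a)) (fun a => jsh_upCone f ξ N a) σ
  exact ⟨germ ξ ((EtCoh.push f).obj F) (N.pt a) x, (phi_germ f ξ F (N.pt a) x).trans hx⟩

/-- The stalk of a proper direct image is the group of sections over the geometric fibre. -/
theorem isIso_phi [IsProper f] : IsIso (phi f ξ F) :=
  (ConcreteCategory.isIso_iff_bijective _).2 ⟨phi_injective f ξ F, phi_surjective f ξ F⟩

end Groth.Agent.PBC20
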